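import Mathlib

set_option autoImplicit false
set_option backward.isDefEq.respectTransparency.types false
set_option synthInstance.maxHeartbeats 400000
set_option maxHeartbeats 4000000
set_option linter.style.haveILetI false
set_option linter.unusedSectionVars false
set_option linter.unusedVariables false

/-!
# Fixed points of a finite group of invertible order on a smooth algebra

If `B` is a smooth `A`-algebra with an action of a finite group `G` by `A`-algebra maps and
`|G|` is invertible in `A`, then the algebra of coinvariants `B / (g b - b)` is smooth over `A`.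
The proof averages an infinitesimal lift.
-/

namespace Groth.Agent.Lib.Helper2.FixSmooth

open scoped BigOperators

universe u v

/-- Key summation identity: if all the products `(a g - a0) * (b h - b0)` vanish then
`N * Σ a_g b_g = (Σ a_g) (Σ b_g)`. -/
theorem card_mul_sum_mul {R : Type*} [CommRing R] {G : Type*} [Fintype G]
    (a b : G → R) (a0 b0 : R) (H : ∀ g h, (a g - a0) * (b h - b0) = 0) :
    (Fintype.card G : R) * ∑ g, a g * b g = (∑ g, a g) * (∑ g, b g) := by
  have h1 : ∀ g h, a g * b h = a g * b0 + a0 * b h - a0 * b0 := fun g h => by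
    linear_combination H g h
  have e1 : ∑ g, a g * b g
      = (∑ g, a g) * b0 + a0 * (∑ g, b g) - (Fintype.card G : R) * (a0 * b0) := by
    rw [Finset.sum_congr rfl (fun g _ => h1 g g)]
    simp [Finset.sum_add_distrib, Finset.sum_sub_distrib, Finset.sum_mul, Finset.mul_sum,
      Finset.card_univ]
  have e2 : (∑ g, a g) * (∑ g, b g)
      = (Fintype.card G : R) * ((∑ g, a g) * b0) + (Fintype.card G : R) * (a0 * (∑ g, b g))
        - (Fintype.card G : R) * ((Fintype.card G : R) * (a0 * b0)) := by
    rw [Finset.sum_mul_sum]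
    rw [Finset.sum_congr rfl (fun g _ => Finset.sum_congr rfl (fun h _ => h1 g h))]
    simp [Finset.sum_add_distrib, Finset.sum_sub_distrib, Finset.sum_mul, Finset.mul_sum,
      Finset.card_univ]
  rw [e1, e2]; ring

section avg

variable {A B R : Type*} [CommRing A] [CommRing B] [CommRing R] [Algebra A B] [Algebra A R]
  {G : Type*} [Group G] [Fintype G]

/-- The averaged map `b ↦ u * Σ_g ψ (σ_g b)` as a linear map. -/
noncomputable def avgLin (σ : G → (B →ₐ[A] B)) (ψ : B →ₐ[A] R) (u : R) : B →ₗ[A] R where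
  toFun b := u * ∑ g, ψ (σ g b)
  map_add' x y := by simp [Finset.sum_add_distrib, mul_add]
  map_smul' c x := by
    simp only [map_smul, RingHom.id_apply]
    rw [← Finset.smul_sum, mul_smul_comm]

/-- The averaged map is an algebra homomorphism when the `ψ ∘ σ_g` agree modulo a square-zero
ideal. -/
noncomputable def avg (σ : G → (B →ₐ[A] B)) (ψ : B →ₐ[A] R) (u : R)
    (hu : u * (Fintype.card G : R) = 1) (I : Ideal R) (hI : I ^ 2 = ⊥)
    (hψ : ∀ g b, ψ (σ g b) - ψ b ∈ I) : B →ₐ[A] R :=
  AlgHom.ofLinearMap (avgLin σ ψ u)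
    (by
      show u * ∑ g, ψ (σ g 1) = 1
      simp [Finset.card_univ, hu])
    (by
      intro x y
      show u * ∑ g, ψ (σ g (x * y)) = (u * ∑ g, ψ (σ g x)) * (u * ∑ g, ψ (σ g y))
      have H : ∀ g h, (ψ (σ g x) - ψ x) * (ψ (σ h y) - ψ y) = 0 := by
        intro g h
        have : (ψ (σ g x) - ψ x) * (ψ (σ h y) - ψ y) ∈ I ^ 2 := by
          rw [pow_two]; exact Ideal.mul_mem_mul (hψ g x) (hψ h y)
        rw [hI] at this
        exact (Ideal.mem_bot).1 this
      have key := card_mul_sum_mul (fun g => ψ (σ g x)) (fun g => ψ (σ g y)) (ψ x) (ψ y) H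
      simp only [map_mul]
      linear_combination (u ^ 2) * key - (u * ∑ g, ψ (σ g x) * ψ (σ g y)) * hu)

theorem avg_apply (σ : G → (B →ₐ[A] B)) (ψ : B →ₐ[A] R) (u : R)
    (hu : u * (Fintype.card G : R) = 1) (I : Ideal R) (hI : I ^ 2 = ⊥)
    (hψ : ∀ g b, ψ (σ g b) - ψ b ∈ I) (b : B) :
    avg σ ψ u hu I hI hψ b = u * ∑ g, ψ (σ g b) := rfl

end avg

/-- Coinvariants of a formally smooth algebra under a finite group of invertible order are
formally smooth. -/
theorem formallySmooth_of_fixed
    {A B C : Type u} [CommRing A] [CommRing B] [CommRing C] [Algebra A B] [Algebra A C]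
    [Algebra.FormallySmooth A B]
    {G : Type v} [Group G] [Fintype G] (σ : G → (B →ₐ[A] B))
    (hσ : ∀ g h, σ (g * h) = (σ h).comp (σ g))
    (hN : IsUnit ((Fintype.card G : ℕ) : A))
    (π : B →ₐ[A] C) (hπ : Function.Surjective π)
    (h1 : ∀ g, π.comp (σ g) = π)
    (h2 : ∀ b, π b = 0 → b ∈ Ideal.span {x | ∃ g b', x = σ g b' - b'}) :
    Algebra.FormallySmooth A C := by
  refine Algebra.FormallySmooth.of_comp_surjective ?_
  intro R _ _ I hI f
  obtain ⟨ψ, hψ⟩ := Algebra.FormallySmooth.comp_surjective A B I hI (f.comp π)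
  obtain ⟨w, hw⟩ := hN.exists_right_inv
  let u : R := algebraMap A R w
  have hu : u * (Fintype.card G : R) = 1 := by
    have := congrArg (algebraMap A R) hw
    simp only [map_mul, map_natCast, map_one] at this
    rw [mul_comm]; exact this
  have hq : ∀ x, Ideal.Quotient.mk I (ψ x) = f (π x) := fun x => AlgHom.congr_fun hψ x
  have hψI : ∀ g b, ψ (σ g b) - ψ b ∈ I := by
    intro g b
    rw [← Ideal.Quotient.eq, hq, hq]
    exact congrArg f (AlgHom.congr_fun (h1 g) b)
  let ψ' : B →ₐ[A] R := avg σ ψ u hu I hI hψI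
  have hinv : ∀ h b, ψ' (σ h b) = ψ' b := by
    intro h b
    show u * ∑ g, ψ (σ g (σ h b)) = u * ∑ g, ψ (σ g b)
    congr 1
    have : ∀ g, ψ (σ g (σ h b)) = ψ (σ (h * g) b) := fun g => by rw [hσ h g]; rfl
    rw [Finset.sum_congr rfl (fun g _ => this g)]
    exact Fintype.sum_equiv (Equiv.mulLeft h) _ _ (fun g => rfl)
  have hker : RingHom.ker π.toRingHom ≤ RingHom.ker ψ'.toRingHom := by
    intro b hb
    have hb' : π b = 0 := hb
    have hspan : Ideal.span {x | ∃ g b', x = σ g b' - b'} ≤ RingHom.ker ψ'.toRingHom := by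
      rw [Ideal.span_le]
      rintro x ⟨g, b', rfl⟩
      show ψ' (σ g b' - b') = 0
      rw [map_sub, hinv, sub_self]
    exact hspan (h2 b hb')
  refine ⟨AlgHom.liftOfSurjective π hπ ψ' hker, ?_⟩
  ext c
  obtain ⟨b, rfl⟩ := hπ c
  show Ideal.Quotient.mk I (AlgHom.liftOfSurjective π hπ ψ' hker (π b)) = f (π b)
  rw [AlgHom.liftOfSurjective_apply]
  show Ideal.Quotient.mk I (u * ∑ g, ψ (σ g b)) = f (π b)
  rw [map_mul, map_sum]
  have : ∀ g, Ideal.Quotient.mk I (ψ (σ g b)) = f (π b) := fun g => by
    rw [hq]; exact congrArg f (AlgHom.congr_fun (h1 g) b)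
  rw [Finset.sum_congr rfl (fun g _ => this g), Finset.sum_const, Finset.card_univ,
    nsmul_eq_mul, ← mul_assoc]
  have h3 : Ideal.Quotient.mk I u * ((Fintype.card G : ℕ) : R ⧸ I) = 1 := by
    have := congrArg (Ideal.Quotient.mk I) hu
    simpa using this
  rw [h3, one_mul]

/-- The ideal of coinvariants is finitely generated when the algebra is of finite type. -/
theorem fg_span_fixed {A B : Type*} [CommRing A] [CommRing B] [Algebra A B]
    [Algebra.FiniteType A B] {G : Type*} [Finite G] (σ : G → (B →ₐ[A] B)) :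
    (Ideal.span {x | ∃ g b', x = σ g b' - b'}).FG := by
  obtain ⟨s, hs⟩ := (Algebra.FiniteType.out : (⊤ : Subalgebra A B).FG)
  let T : Set B := Set.range (fun p : G × s => σ p.1 p.2 - p.2)
  have hT : T.Finite := Set.finite_range _
  have hle : Ideal.span T ≤ Ideal.span {x | ∃ g b', x = σ g b' - b'} := by
    apply Ideal.span_mono
    rintro x ⟨p, rfl⟩
    exact ⟨p.1, p.2, rfl⟩
  have hge : Ideal.span {x | ∃ g b', x = σ g b' - b'} ≤ Ideal.span T := by
    rw [Ideal.span_le]
    rintro x ⟨g, b, rfl⟩
    have hb : b ∈ Algebra.adjoin A (s : Set B) := by rw [hs]; trivial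
    show σ g b - b ∈ Ideal.span T
    induction hb using Algebra.adjoin_induction with
    | mem x hx => exact Ideal.subset_span ⟨(g, ⟨x, hx⟩), rfl⟩
    | algebraMap r => rw [AlgHom.commutes, sub_self]; exact Ideal.zero_mem _
    | add x y _ _ hx hy =>
      have : σ g (x + y) - (x + y) = (σ g x - x) + (σ g y - y) := by rw [map_add]; ring
      rw [this]; exact Ideal.add_mem _ hx hy
    | mul x y _ _ hx hy =>
      have : σ g (x * y) - x * y = σ g x * (σ g y - y) + (σ g x - x) * y := by
        rw [map_mul]; ring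
      rw [this]
      exact Ideal.add_mem _ (Ideal.mul_mem_left _ _ hy) (Ideal.mul_mem_right _ _ hx)
  rw [le_antisymm hge hle]
  exact Submodule.fg_span hT

/-- Coinvariants of a smooth algebra under a finite group of invertible order are smooth. -/
theorem smooth_of_fixed
    {A B C : Type u} [CommRing A] [CommRing B] [CommRing C] [Algebra A B] [Algebra A C]
    [Algebra.Smooth A B]
    {G : Type v} [Group G] [Fintype G] (σ : G → (B →ₐ[A] B))
    (hσ : ∀ g h, σ (g * h) = (σ h).comp (σ g))
    (hN : IsUnit ((Fintype.card G : ℕ) : A))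
    (π : B →ₐ[A] C) (hπ : Function.Surjective π)
    (h1 : ∀ g, π.comp (σ g) = π)
    (h2 : ∀ b, π b = 0 → b ∈ Ideal.span {x | ∃ g b', x = σ g b' - b'}) :
    Algebra.Smooth A C := by
  have hfs : Algebra.FormallySmooth A C := formallySmooth_of_fixed σ hσ hN π hπ h1 h2
  have hker : RingHom.ker π.toRingHom = Ideal.span {x | ∃ g b', x = σ g b' - b'} := by
    apply le_antisymm
    · intro b hb; exact h2 b hb
    · rw [Ideal.span_le]
      rintro x ⟨g, b', rfl⟩
      show π (σ g b' - b') = 0
      rw [map_sub, sub_eq_zero]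
      exact AlgHom.congr_fun (h1 g) b'
  have hfp : Algebra.FinitePresentation A C := by
    refine Algebra.FinitePresentation.of_surjective hπ ?_
    rw [hker]
    exact fg_span_fixed σ
  exact ⟨hfs, hfp⟩

/-- Ring-hom version. -/
theorem ringHom_smooth_of_fixed {A B C : Type u} [CommRing A] [CommRing B] [CommRing C]
    (φ : A →+* B) (hφ : φ.Smooth) {G : Type v} [Group G] [Finite G] (σ : G → (B →+* B))
    (hσφ : ∀ g, (σ g).comp φ = φ) (hσ : ∀ g h, σ (g * h) = (σ h).comp (σ g))
    (hN : IsUnit ((Nat.card G : ℕ) : A)) (π : B →+* C) (hπ : Function.Surjective π)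
    (h1 : ∀ g, π.comp (σ g) = π)
    (h2 : ∀ b, π b = 0 → b ∈ Ideal.span {x | ∃ g b', x = σ g b' - b'}) :
    (π.comp φ).Smooth := by
  letI := Fintype.ofFinite G
  letI algB : Algebra A B := φ.toAlgebra
  letI algC : Algebra A C := (π.comp φ).toAlgebra
  haveI : Algebra.Smooth A B := hφ
  let σ' : G → (B →ₐ[A] B) := fun g =>
    { σ g with commutes' := fun a => RingHom.congr_fun (hσφ g) a }
  let π' : B →ₐ[A] C := { π with commutes' := fun a => rfl }
  have hN' : IsUnit ((Fintype.card G : ℕ) : A) := by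
    rw [← Nat.card_eq_fintype_card]; exact hN
  have := smooth_of_fixed (A := A) (B := B) (C := C) σ'
    (fun g h => by ext b; exact RingHom.congr_fun (hσ g h) b) hN' π' hπ
    (fun g => by ext b; exact RingHom.congr_fun (h1 g) b)
    (fun b hb => h2 b hb)
  exact this

end Groth.Agent.Lib.Helper2.FixSmooth
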