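import Mathlib
import Groth.Agent.Lib.Helper2.FixSmooth.Alg

set_option autoImplicit false
set_option backward.isDefEq.respectTransparency.types false
set_option synthInstance.maxHeartbeats 400000
set_option maxHeartbeats 4000000
set_option linter.style.haveILetI false
set_option linter.unusedSectionVars false
set_option linter.unusedVariables false

/-!
# Fixed points of a finite group acting on a smooth separated scheme
-/

open CategoryTheory AlgebraicGeometry Limits

namespace Groth.Agent.Lib.Helper2.FixSmooth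

universe u v

section closed

variable {S : Scheme.{u}} (X : Over S) [IsSeparated X.hom] {G : Type v} [Group G]
  (ρ : G →* Aut X)

/-- For a finite set `s` of group elements, the common fixed locus exists as a closed
subscheme. -/
theorem exists_fixed_closed (s : Finset G) :
    ∃ (W : Over S) (j : W ⟶ X), IsClosedImmersion j.left ∧ (∀ g ∈ s, j ≫ (ρ g).hom = j) ∧
      ∀ (T : Over S) (t : T ⟶ X), (∀ g ∈ s, t ≫ (ρ g).hom = t) → ∃ t' : T ⟶ W, t' ≫ j = t := by
  classical
  induction s using Finset.induction_on with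
  | empty =>
    refine ⟨X, 𝟙 X, ?_, by simp, fun T t _ => ⟨t, by simp⟩⟩
    show IsClosedImmersion (𝟙 X.left)
    infer_instance
  | insert g s hg ih =>
    obtain ⟨W, j, hj, hinv, hlift⟩ := ih
    refine ⟨equalizer (j ≫ (ρ g).hom) j, equalizer.ι _ _ ≫ j, ?_, ?_, ?_⟩
    · rw [Over.comp_left]; infer_instance
    · intro g' hg'
      rcases Finset.mem_insert.1 hg' with rfl | h
      · rw [Category.assoc]; exact equalizer.condition _ _
      · rw [Category.assoc, hinv g' h]
    · intro T t ht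
      obtain ⟨t', ht'⟩ := hlift T t (fun g' h => ht g' (Finset.mem_insert_of_mem h))
      refine ⟨equalizer.lift t' ?_, ?_⟩
      · rw [← Category.assoc, ht', ht g (Finset.mem_insert_self _ _)]
      · rw [← Category.assoc, equalizer.lift_ι, ht']

theorem isClosedImmersion_of_fixed [Finite G] (Z : Over S) (ι : Z ⟶ X)
    (hι : ∀ g, ι ≫ (ρ g).hom = ι)
    (hZ : ∀ (T : Over S) (t : T ⟶ X),
      (∀ g : G, t ≫ (ρ g).hom = t) ↔ ∃! t' : T ⟶ Z, t' ≫ ι = t) :
    IsClosedImmersion ι.left := by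
  classical
  letI := Fintype.ofFinite G
  obtain ⟨W, j, hj, hinv, hlift⟩ := exists_fixed_closed X ρ Finset.univ
  obtain ⟨a, ha, -⟩ := (hZ W j).1 (fun g => hinv g (Finset.mem_univ _))
  obtain ⟨b, hb⟩ := hlift Z ι (fun g _ => hι g)
  have hba : b ≫ a = 𝟙 Z := by
    obtain ⟨c, -, hc⟩ := (hZ Z ι).1 hι
    rw [hc (b ≫ a) (by show (b ≫ a) ≫ ι = ι; rw [Category.assoc, ha, hb]),
      hc (𝟙 Z) (by show 𝟙 Z ≫ ι = ι; simp)]
  have hmono : Mono j.left := inferInstance
  have hab : a ≫ b = 𝟙 W := by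
    apply Over.OverMorphism.ext
    rw [← cancel_mono j.left, ← Over.comp_left, Category.assoc, hb, ha]
    simp
  have hiso : IsIso b := ⟨a, hba, hab⟩
  have hisol : IsIso b.left := (Over.forget S).map_isIso b
  have : ι.left = b.left ≫ j.left := by rw [← Over.comp_left, hb]
  rw [this]; infer_instance

end closed

section smooth

theorem smooth_stableSrc :
    RingHom.StableUnderCompositionWithLocalizationAwaySource RingHom.Smooth :=
  fun R S T _ _ _ _ r _ f hf => (RingHom.Smooth.holdsForLocalizationAway S r).comp hf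

theorem appLE_congr_hom {X Y : Scheme.{u}} {k f : X ⟶ Y} (hk : k = f) (U : Y.Opens)
    (V : X.Opens) (e : V ≤ k ⁻¹ᵁ U) (e' : V ≤ f ⁻¹ᵁ U) : k.appLE U V e = f.appLE U V e' := by
  subst hk; rfl

theorem smooth_of_fixed_scheme {X S Z : Scheme.{u}} (f : X ⟶ S) [Smooth f] [IsSeparated f]
    {G : Type v} [Group G] [Finite G] (r : G → (X ⟶ X)) [∀ g, IsIso (r g)]
    (hrf : ∀ g, r g ≫ f = f) (hr : ∀ g h, r (g * h) = r h ≫ r g)
    (hG : IsUnit (Nat.card G : Γ(S, ⊤)))
    (i : Z ⟶ X) [IsClosedImmersion i] (hi : ∀ g, i ≫ r g = i)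
    (huniv : ∀ (T : Scheme.{u}) (t : T ⟶ X), (∀ g, t ≫ r g = t) → ∃ t' : T ⟶ Z, t' ≫ i = t) :
    Smooth (i ≫ f) := by
  rw [HasRingHomProperty.iff_exists_appLE (P := @Smooth) smooth_stableSrc]
  intro z
  obtain ⟨U, hU, hfx, -⟩ := TopologicalSpace.Opens.isBasis_iff_nbhd.mp S.isBasis_affineOpens
    (TopologicalSpace.Opens.mem_top (f (i z)))
  obtain ⟨W, hW, hx, e⟩ := TopologicalSpace.Opens.isBasis_iff_nbhd.mp X.isBasis_affineOpens
    (show i z ∈ f ⁻¹ᵁ U from hfx)
  let W' : X.Opens := ⨅ g : G, (r g) ⁻¹ᵁ W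
  have hmem : ∀ y, y ∈ W' ↔ ∀ g, r g y ∈ W := by
    intro y
    rw [← SetLike.mem_coe, TopologicalSpace.Opens.coe_iInf, Set.mem_iInter]
    rfl
  have hpre : ∀ g, (r g) ⁻¹ᵁ W ≤ f ⁻¹ᵁ U := by
    intro g y hy
    have h1 : r g y ∈ f ⁻¹ᵁ U := e hy
    have h2 : f (r g y) = f y := by
      rw [← Scheme.Hom.comp_apply, hrf]
    show f y ∈ U
    rw [← h2]; exact h1
  have hW'U : W' ≤ f ⁻¹ᵁ U := (iInf_le _ (1 : G)).trans (hpre 1)
  have hdiag : IsAffineHom (pullback.diagonal f) := inferInstance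
  have hW'aff : IsAffineOpen W' := by
    have hcl : InfClosed {V : X.Opens | IsAffineOpen V ∧ V ≤ f ⁻¹ᵁ U} := by
      rintro V₁ ⟨h₁, l₁⟩ V₂ ⟨h₂, l₂⟩
      exact ⟨isAffineHom_diagonal_iff.mp hdiag U hU V₁ l₁ V₂ l₂ h₁ h₂, inf_le_left.trans l₁⟩
    exact (hcl.iInf_mem_of_nonempty (f := fun g : G => (r g) ⁻¹ᵁ W)
      (fun g => ⟨hW.preimage (r g), hpre g⟩)).1
  have hstab : ∀ g, W' ≤ (r g) ⁻¹ᵁ W' := by
    intro g y hy
    show r g y ∈ W'
    rw [hmem] at hy ⊢
    intro h
    have : r h (r g y) = r (h * g) y := by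
      rw [hr h g, Scheme.Hom.comp_apply]
    rw [this]; exact hy _
  have hxW' : i z ∈ W' := by
    rw [hmem]; intro g
    have : r g (i z) = i z := by rw [← Scheme.Hom.comp_apply, hi]
    rw [this]; exact hx
  let V : Z.Opens := i ⁻¹ᵁ W'
  have hV : IsAffineOpen V := hW'aff.preimage i
  have hVU : V ≤ (i ≫ f) ⁻¹ᵁ U := by
    intro y hy
    exact hW'U hy
  refine ⟨⟨U, hU⟩, ⟨V, hV⟩, hxW', hVU, ?_⟩
  have hcomp : (i ≫ f).appLE U V hVU = f.appLE U W' hW'U ≫ i.appLE W' V le_rfl :=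
    (Scheme.Hom.appLE_comp_appLE i f U W' V hW'U le_rfl).symm
  show ((i ≫ f).appLE U V hVU).hom.Smooth
  rw [hcomp, CommRingCat.hom_comp]
  -- the pieces
  have hφ : (f.appLE U W' hW'U).hom.Smooth :=
    HasRingHomProperty.appLE (P := @Smooth) f inferInstance ⟨U, hU⟩ ⟨W', hW'aff⟩ hW'U
  have hN : IsUnit ((Nat.card G : ℕ) : Γ(S, U)) := by
    have := hG.map (S.presheaf.map (homOfLE (le_top : U ≤ ⊤)).op).hom
    simpa using this
  have hπ : Function.Surjective (i.appLE W' V le_rfl).hom := by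
    have := i.app_surjective W' hW'aff
    rwa [Scheme.Hom.app_eq_appLE] at this
  refine ringHom_smooth_of_fixed (f.appLE U W' hW'U).hom hφ
    (fun g => ((r g).appLE W' W' (hstab g)).hom) ?_ ?_ hN (i.appLE W' V le_rfl).hom hπ ?_ ?_
  · intro g
    rw [← CommRingCat.hom_comp, Scheme.Hom.appLE_comp_appLE]
    congr 1
    exact appLE_congr_hom (hrf g) _ _ _ _
  · intro g h
    rw [← CommRingCat.hom_comp, Scheme.Hom.appLE_comp_appLE]
    congr 1
    exact appLE_congr_hom (hr g h) _ _ _ _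
  · intro g
    rw [← CommRingCat.hom_comp, Scheme.Hom.appLE_comp_appLE]
    congr 1
    exact appLE_congr_hom (hi g) _ _ _ _
  · -- the universal property
    intro b hb
    set σ : G → (Γ(X, W') →+* Γ(X, W')) := fun g => ((r g).appLE W' W' (hstab g)).hom with hσdef
    set J : Ideal Γ(X, W') := Ideal.span {x | ∃ g b', x = σ g b' - b'} with hJ
    let q : Γ(X, W') ⟶ CommRingCat.of (Γ(X, W') ⧸ J) := CommRingCat.ofHom (Ideal.Quotient.mk J)
    let T : Scheme.{u} := Spec (CommRingCat.of (Γ(X, W') ⧸ J))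
    let t : T ⟶ X := Spec.map q ≫ hW'aff.fromSpec
    have hq : ∀ g, (r g).appLE W' W' (hstab g) ≫ q = q := by
      intro g
      ext b'
      show Ideal.Quotient.mk J (σ g b') = Ideal.Quotient.mk J b'
      rw [Ideal.Quotient.eq]
      exact Ideal.subset_span ⟨g, b', rfl⟩
    have ht : ∀ g, t ≫ r g = t := by
      intro g
      show (Spec.map q ≫ hW'aff.fromSpec) ≫ r g = Spec.map q ≫ hW'aff.fromSpec
      rw [Category.assoc, ← IsAffineOpen.SpecMap_appLE_fromSpec (r g) hW'aff hW'aff (hstab g),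
        ← Category.assoc, ← Spec.map_comp, hq]
    obtain ⟨t', ht'⟩ := huniv T t ht
    have hrange : Set.range t' ⊆ Set.range hV.fromSpec := by
      rw [hV.range_fromSpec]
      rintro _ ⟨y, rfl⟩
      show i (t' y) ∈ W'
      rw [← Scheme.Hom.comp_apply, ht']
      have : t y ∈ Set.range hW'aff.fromSpec := ⟨Spec.map q y, rfl⟩
      rw [hW'aff.range_fromSpec] at this
      exact this
    let l : T ⟶ Spec Γ(Z, V) := IsOpenImmersion.lift hV.fromSpec t' hrange
    have hl : l ≫ hV.fromSpec = t' := IsOpenImmersion.lift_fac _ _ _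
    let φ : Γ(Z, V) ⟶ CommRingCat.of (Γ(X, W') ⧸ J) := Spec.preimage l
    have hφl : Spec.map φ = l := Spec.map_preimage l
    have hkey : Spec.map (i.appLE W' V le_rfl ≫ φ) ≫ hW'aff.fromSpec
        = Spec.map q ≫ hW'aff.fromSpec := by
      rw [Spec.map_comp, Category.assoc, IsAffineOpen.SpecMap_appLE_fromSpec i hW'aff hV le_rfl,
        hφl, ← Category.assoc, hl, ht']
    have hkey2 : i.appLE W' V le_rfl ≫ φ = q := by
      apply Spec.map_injective
      exact (cancel_mono hW'aff.fromSpec).1 hkey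
    have : q b = 0 := by
      rw [← hkey2]
      show φ ((i.appLE W' V le_rfl).hom b) = 0
      rw [hb, map_zero]
    exact Ideal.Quotient.eq_zero_iff_mem.1 this

end smooth

section main

theorem main16212 (S : Scheme.{u})
    (X : Over S) [Smooth X.hom] [QuasiCompact X.hom] [IsSeparated X.hom]
    (G : Type v) [Group G] [Finite G] (ρ : G →* Aut X)
    (hG : IsUnit (Nat.card G : Γ(S, ⊤)))
    (Z : Over S) (ι : Z ⟶ X) (hι : ∀ g : G, ι ≫ (ρ g).hom = ι)
    (hZ : ∀ (T : Over S) (t : T ⟶ X),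
      (∀ g : G, t ≫ (ρ g).hom = t) ↔ ∃! t' : T ⟶ Z, t' ≫ ι = t) :
    IsClosedImmersion ι.left ∧ Smooth Z.hom ∧ QuasiCompact Z.hom ∧ QuasiSeparated Z.hom := by
  have hcl : IsClosedImmersion ι.left := isClosedImmersion_of_fixed X ρ Z ι hι hZ
  have hw : ι.left ≫ X.hom = Z.hom := Over.w ι
  haveI : ∀ g : G, IsIso (ρ g).hom.left := fun g => (Over.forget S).map_isIso (ρ g).hom
  refine ⟨hcl, ?_, ?_, ?_⟩
  · rw [← hw]
    refine smooth_of_fixed_scheme X.hom (fun g => (ρ g).hom.left) (fun g => Over.w (ρ g).hom)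
      ?_ hG ι.left ?_ ?_
    · intro g h
      rw [map_mul, Aut.Aut_mul_def]
      rfl
    · intro g
      rw [← Over.comp_left, hι]
    · intro T t ht
      obtain ⟨t', ht', -⟩ := (hZ (Over.mk (t ≫ X.hom)) (Over.homMk t rfl)).1 (by
        intro g
        apply Over.OverMorphism.ext
        exact ht g)
      exact ⟨t'.left, by rw [← Over.comp_left, ht']; rfl⟩
  · rw [← hw]; infer_instance
  · rw [← hw]; infer_instance

end main

end Groth.Agent.Lib.Helper2.FixSmooth
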